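import Cfsg.Agent.Coset.Fi22E6.Kernel
import Cfsg.Agent.Coset.Fi22.Rels

/-!
Finite checks: the change of basis, the nine images, the relators and the kernel vector.
-/

set_option autoImplicit false
set_option maxRecDepth 100000
set_option Elab.async false

namespace CfsgLib.Coset.Fi22E6

open CfsgLib.Coset.J4.Mat

/-- The change of basis. -/
def tP : List Nat × List Nat := (tLo, tHi)

/-- The inverse change of basis. -/
def sP : List Nat × List Nat := (sLo, sHi)

/-- The pair matrices of a word of the twelve generators. -/
def gP (g : Nat) : List (List Nat × List Nat) := (gw.getD g []).map fun n => xs.getD n ([], [])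

section Kernel

/-- A rational matrix as a pair. -/
def ratP (R : List Nat) : List Nat × List Nat := (R, List.replicate 78 0)

/-- The lengths of the rational tables. -/
def lensOK : Bool :=
  Nat.beq tLo.length 78 && Nat.beq tHi.length 78 && Nat.beq sLo.length 78 && Nat.beq sHi.length 78 &&
  Nat.beq zRows.length 78 && Nat.beq yRows.length 78 && Nat.beq bInv.length 78 &&
  Nat.beq selW.length 78 && Nat.beq selV.length 78 && Nat.beq aL.length 12 && Nat.beq mL.length 9 &&
  (aL.all fun R => Nat.beq R.length 78) && (mL.all fun R => Nat.beq R.length 78) &&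
  (gw.all fun w => w.all fun n => Nat.blt n 20) && (wd.all fun w => w.all fun g => Nat.blt g 12) &&
  (zw.all fun w => w.all fun l => Nat.ble 1 l && Nat.blt l 9) &&
  (selW.all fun w => w.all fun l => Nat.ble 1 l && Nat.blt l 9)

/-- The sum of the three words. -/
noncomputable def zOK : Bool :=
  CfsgLib.Coset.allBelow 7 78 fun i =>
    Nat.beq (zRows.getD i 0) (Nat.xor (vw mL (Nat.pow 2 i) (zw.getD 0 []))
      (Nat.xor (vw mL (Nat.pow 2 i) (zw.getD 1 [])) (vw mL (Nat.pow 2 i) (zw.getD 2 []))))

/-- The partial inverse. -/
noncomputable def yOK : Bool :=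
  CfsgLib.Coset.allBelow 7 78 fun i =>
    Nat.beq (vm yRows (zRows.getD i 0))
      (Nat.xor (Nat.pow 2 i) (cond (cv.testBit i) kv 0))

/-- The orbit of the kernel vector spans. -/
noncomputable def selOK : Bool :=
  CfsgLib.Coset.allBelow 7 78 fun i =>
    cond (Nat.beq (vw mL kv (selW.getD i [])) (selV.getD i 0))
      (Nat.beq (vm bInv (selV.getD i 0)) (Nat.pow 2 i)) false

end Kernel

theorem lens_ok : lensOK = true := by decide +kernel

theorem ts_ok : peqOK [tP, sP] [] = true := by decide +kernel

theorem gen_ok0 : ((List.range 6).all fun g =>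
    peqOK (gP g ++ [tP]) [tP, ratP (aL.getD g [])]) = true := by decide +kernel

theorem gen_ok1 : (([6, 7, 8, 9, 10, 11] : List Nat).all fun g =>
    peqOK (gP g ++ [tP]) [tP, ratP (aL.getD g [])]) = true := by decide +kernel

theorem wd_ok0 : (([0, 1, 2, 3, 4] : List Nat).all fun k =>
    rowsOK aL (wd.getD k []) (mL.getD k [])) = true := by decide +kernel

theorem wd_ok1 : (([5, 6, 7, 8] : List Nat).all fun k =>
    rowsOK aL (wd.getD k []) (mL.getD k [])) = true := by decide +kernel

theorem rels_lens : (Fi22.rels.all fun w => w.all fun l => Nat.blt l 9) = true := by decide +kernel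

theorem rel_ok0 : ((Fi22.rels.take 24).all fun w => wordOK mL 78 7 w) = true := by decide +kernel

theorem rel_ok1 : (((Fi22.rels.drop 24).take 22).all fun w => wordOK mL 78 7 w) = true := by
  decide +kernel

theorem rel_ok2 : ((Fi22.rels.drop 46).all fun w => wordOK mL 78 7 w) = true := by decide +kernel

theorem z_ok : zOK = true := by decide +kernel

theorem zv_ok : Nat.beq (vm zRows kv) 0 = true := by decide +kernel

theorem y_ok : yOK = true := by decide +kernel

theorem sel_ok : selOK = true := by decide +kernel

end CfsgLib.Coset.Fi22E6
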