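import Cfsg.Agent.Chev.E6TwThreeF4
import Cfsg.Prelude.Def_KGroupFacts

/-!
An absolutely irreducible subgroup of `²E₆(2)` with outer automorphism group of order two has
three classes of images under the diagonal automorphisms.
-/

set_option autoImplicit false
set_option linter.unusedSectionVars false

namespace CfsgLib.Coset.Fi22E6

open Cfsg.Lie Matrix CfsgLib.Chev CfsgLib.Chev.Tab CfsgLib.Chev.E6Tw CfsgLib.Chev.E6ThreeF4
open scoped MatrixGroups

/-- The rank is not zero. -/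
local instance neZeroRankFi : NeZero chevE6.rank := ⟨by decide⟩

/-- There are orbits. -/
local instance neZeroOrbsFi : NeZero E6Tw.orbs.length := ⟨by decide⟩

variable {K : Type*} [Field K] [Fintype K]

/-- Automorphisms square to inner ones when there are two classes of them. -/
theorem sq_inner_of_card_out {G : Type*} [Group G] (h : Nat.card (Cfsg.Out G) = 2) (φ : MulAut G) :
    ∃ x : G, ∀ g, φ (φ g) = x * g * x⁻¹ := by
  have : Finite (Cfsg.Out G) := Nat.finite_of_card_ne_zero (by omega)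
  have h2 : (QuotientGroup.mk φ : Cfsg.Out G) ^ 2 = 1 := h ▸ pow_card_eq_one'
  rw [← QuotientGroup.mk_pow, QuotientGroup.eq_one_iff] at h2
  obtain ⟨x, hx⟩ := h2
  refine ⟨x, fun g => ?_⟩
  have e := DFunLike.congr_fun hx g
  rw [MulAut.conj_apply, pow_two, MulAut.mul_apply] at e
  exact e.symm

theorem three_of {G : Type*} [Group G] (hK : Fintype.card K = 4) (Ψ : G →* GL chevE6.Idx K)
    (hinj : Function.Injective Ψ) (hmem : ∀ g, Ψ g ∈ twistedE6 K 2)
    (hcent : ∀ Y : Matrix chevE6.Idx chevE6.Idx K,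
      (∀ g, Y * ((Ψ g : GL chevE6.Idx K) : Matrix chevE6.Idx chevE6.Idx K) =
        ((Ψ g : GL chevE6.Idx K) : Matrix chevE6.Idx chevE6.Idx K) * Y) → ∃ c : K, Y = c • 1)
    (hout : ∀ φ : MulAut G, ∃ x : G, ∀ g, φ (φ g) = x * g * x⁻¹) :
    ∃ H : Fin 3 → Subgroup (twistedE6 K 2),
      (∀ i, Nonempty ((H i) ≃* G)) ∧
      ∀ i j, i ≠ j → ∀ g : twistedE6 K 2, (H i).map (MulAut.conj g).toMonoidHom ≠ H j := by
  classical
  obtain ⟨C⟩ := E6Tw.exists_ctx (K := K) (q := 2) Nat.prime_two.isPrimePow (by rw [hK]; norm_num)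
  have hidx : C.A.chiHom.range.index = 3 := by rw [C.card_index]; rfl
  obtain ⟨u, hu⟩ : ∃ u : C.A.Cσ, u ∉ C.A.chiHom.range := by
    by_contra hall
    simp only [not_exists, not_not] at hall
    rw [show C.A.chiHom.range = ⊤ from eq_top_iff.mpr fun x _ => hall x, Subgroup.index_top] at hidx
    exact absurd hidx (by norm_num)
  obtain ⟨χ, hχ, hχu⟩ := good_E6.exists_rootChar coef_E6 u.1
  set d := Good.charUnit chevE6 χ
  have hx : ∀ (m : ℕ), ∀ r < chevE6.nroots, ∀ t : K,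
      d ^ m * good_E6.full.x r t * (d ^ m)⁻¹ = good_E6.full.x r (((χ r : K) ^ m) * t) := by
    intro m r hr
    induction m with
    | zero => intro t; simp
    | succ m ih =>
      intro t
      have hd := good_E6.charUnit_conj_x (F := K)
        (by simp : chevE6 ∈ [chevG2, chevB2, chevD4, chevF4, chevE6, chevE7, chevE8]) hχ hr
      have e1 : d ^ (m + 1) * good_E6.full.x r t * (d ^ (m + 1))⁻¹ =
          d ^ m * (d * good_E6.full.x r t * d⁻¹) * (d ^ m)⁻¹ := by
        rw [pow_succ]; group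
      rw [e1, hd, ih, pow_succ, mul_assoc]
  have hxi : ∀ r < chevE6.nroots, ∀ t : K,
      d⁻¹ * good_E6.full.x r t * d = good_E6.full.x r (((χ r)⁻¹ : Kˣ) * t) := by
    intro r hr t
    have h1 := hx 1 r hr (((χ r)⁻¹ : Kˣ) * t)
    rw [pow_one, pow_one, Units.mul_inv_cancel_left] at h1
    rw [← h1]; group
  have hgrp : ∀ g ∈ C.A.grp, d * g * d⁻¹ ∈ C.A.grp := by
    intro g hg
    have h1 : ∀ g ∈ C.A.grp, g ∈ C.A.grp.comap (MulAut.conj d).toMonoidHom := by
      refine fun g hg => (Subgroup.closure_le _).mpr ?_ hg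
      rintro _ ⟨J, t, ht, rfl | rfl⟩
      · show d * good_E6.PX (good_E6.oJ E6Tw.orbs J) t * d⁻¹ ∈ C.A.grp
        rw [Good.PX, conj_list_prod', List.map_map]
        convert C.A.PX_mem (C.A.tup_mul (C.A.tup_Cσ J u) ht) using 1
        rw [Good.PX]
        exact congrArg List.prod (List.map_congr_left fun a _ => by
          show d * good_E6.full.x (chevE6.simple a) (t a) * d⁻¹ = _
          have h1 := hx 1 _ (simple_isPos a).1 (t a)
          rw [pow_one, pow_one, hχu] at h1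
          exact h1)
      · show d * good_E6.PN (good_E6.oJ E6Tw.orbs J) t * d⁻¹ ∈ C.A.grp
        rw [Good.PN, conj_list_prod', List.map_map]
        convert C.A.PN_mem (C.A.tup_mul (C.A.tup_Cσ J u⁻¹) ht) using 1
        rw [Good.PN]
        exact congrArg List.prod (List.map_congr_left fun a _ => by
          show d * good_E6.full.x (negR chevE6 (chevE6.simple a)) (t a) * d⁻¹ = _
          have h1 := hx 1 _ (Cert.negR_lt (simple_isPos a).1) (t a)
          rw [pow_one, pow_one] at h1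
          rw [h1, ← good_E6.full.cert.neg_eq (simple_isPos a).1, hχ.1 _ (simple_isPos a).1, hχu]
          rfl)
    exact h1 g hg
  have hgrpm : ∀ (m : ℕ) (g : GL chevE6.Idx K), g ∈ C.A.grp →
      d ^ m * g * (d ^ m)⁻¹ ∈ C.A.grp := by
    intro m
    induction m with
    | zero => intro g hg; simpa using hg
    | succ m ih =>
      intro g hg
      have e1 : d ^ (m + 1) * g * (d ^ (m + 1))⁻¹ = d ^ m * (d * g * d⁻¹) * (d ^ m)⁻¹ := by
        rw [pow_succ]; group
      rw [e1]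
      exact ih _ (hgrp g hg)
  have hd3 : ∀ g ∈ C.A.grp, ∀ m : ℕ, (d ^ m)⁻¹ * g * d ^ m ∈ C.A.grp := by
    intro g hg m
    have hf : Function.Surjective
        fun x : C.A.grp => (⟨d ^ m * x * (d ^ m)⁻¹, hgrpm m _ x.2⟩ : C.A.grp) :=
      Finite.injective_iff_surjective.mp fun a b hab => Subtype.ext (by
        simpa using congrArg Subtype.val hab)
    obtain ⟨x, hx'⟩ := hf ⟨g, hg⟩
    rw [← show d ^ m * (x : GL chevE6.Idx K) * (d ^ m)⁻¹ = g from congrArg Subtype.val hx']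
    simpa [mul_assoc] using x.2
  have hG : C.W.G1 = twistedE6 K 2 := C.grp_eq
  let R : Subgroup (GL chevE6.Idx K) := Ψ.range
  have hR : R ≤ C.W.G1 := by
    rintro _ ⟨g, rfl⟩
    exact hG.symm ▸ hmem g
  let H' : Fin 3 → Subgroup (GL chevE6.Idx K) := fun i =>
    R.map (MulAut.conj (d ^ i.val)).toMonoidHom
  have hH' : ∀ i, H' i ≤ twistedE6 K 2 := by
    rintro i _ ⟨h, hh, rfl⟩
    exact hG ▸ hgrpm i.val h (hR hh)
  refine ⟨fun i => (H' i).subgroupOf (twistedE6 K 2), fun i =>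
    ⟨((Subgroup.subgroupOfEquivOfLe (hH' i)).trans
      (R.equivMapOfInjective _ (MulAut.conj (d ^ i.val)).injective).symm).trans
      (MonoidHom.ofInjective hinj).symm⟩, ?_⟩
  intro i j hij g hmap
  replace hmap : ((H' i).subgroupOf (twistedE6 K 2)).map (MulAut.conj g).toMonoidHom =
      (H' j).subgroupOf (twistedE6 K 2) := hmap
  have hmem' : ∀ (k : Fin 3), ∀ h ∈ R, d ^ k.val * h * (d ^ k.val)⁻¹ ∈ H' k :=
    fun k h hh => ⟨h, hh, rfl⟩
  have hkey : ∀ h ∈ R, (g : GL chevE6.Idx K) * (d ^ i.val * h * (d ^ i.val)⁻¹) *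
      (g : GL chevE6.Idx K)⁻¹ ∈ H' j := by
    intro h hh
    have hm : (MulAut.conj g) ⟨_, hH' i (hmem' i h hh)⟩ ∈ (H' j).subgroupOf (twistedE6 K 2) := by
      rw [← hmap]
      exact ⟨_, (show (⟨_, hH' i (hmem' i h hh)⟩ : twistedE6 K 2) ∈
        (H' i).subgroupOf (twistedE6 K 2) from hmem' i h hh), rfl⟩
    exact hm
  have hkey' : ∀ h ∈ R, (g : GL chevE6.Idx K)⁻¹ * (d ^ j.val * h * (d ^ j.val)⁻¹) *
      (g : GL chevE6.Idx K) ∈ H' i := by
    intro h hh
    have hh' : (⟨_, hH' j (hmem' j h hh)⟩ : twistedE6 K 2) ∈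
        ((H' i).subgroupOf (twistedE6 K 2)).map (MulAut.conj g).toMonoidHom := by
      rw [hmap]
      exact hmem' j h hh
    obtain ⟨x, hx', ex⟩ := hh'
    have ex' := congrArg Subtype.val ex
    show (g : GL chevE6.Idx K)⁻¹ * (d ^ j.val * h * (d ^ j.val)⁻¹) * g ∈ H' i
    have e2 : (g : GL chevE6.Idx K)⁻¹ * (d ^ j.val * h * (d ^ j.val)⁻¹) * g = x.1 := by
      rw [show d ^ j.val * h * (d ^ j.val)⁻¹ =
        (g : GL chevE6.Idx K) * x.1 * (g : GL chevE6.Idx K)⁻¹ from ex'.symm]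
      group
    rw [e2]; exact hx'
  have main : ∀ (a b : ℕ) (γ : GL chevE6.Idx K), γ ∈ C.A.grp →
      (∀ h ∈ R, γ * (d ^ (b + a) * h * (d ^ (b + a))⁻¹) * γ⁻¹ ∈
        R.map (MulAut.conj (d ^ b)).toMonoidHom) → u ^ (2 * a) ∈ C.A.chiHom.range := by
    intro a b γ hγ hc
    set γ' := (d ^ b)⁻¹ * γ * d ^ b with hγ'
    have hγ'G : γ' ∈ C.A.grp := hd3 γ hγ b
    set y := γ' * d ^ a with hy
    have hyR : ∀ g : G, y * Ψ g * y⁻¹ ∈ R := by
      intro g
      obtain ⟨x, hx', ex⟩ := hc (Ψ g) ⟨g, rfl⟩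
      have ex' : γ * (d ^ (b + a) * Ψ g * (d ^ (b + a))⁻¹) * γ⁻¹ = d ^ b * x * (d ^ b)⁻¹ := ex.symm
      have e2 : y * Ψ g * y⁻¹ = x := by
        rw [show x = (d ^ b)⁻¹ * (d ^ b * x * (d ^ b)⁻¹) * d ^ b by group, ← ex', hy, hγ', pow_add]
        group
      rw [e2]; exact hx'
    choose f hf using hyR
    have : Finite G := Finite.of_injective Ψ hinj
    have hfinj : Function.Injective f := fun g g' e => hinj (by
      have := (hf g).symm.trans ((congrArg Ψ e).trans (hf g'))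
      simpa using this)
    have hfmul : ∀ g g', f (g * g') = f g * f g' := fun g g' => hinj (by
      rw [map_mul, hf, hf, hf, map_mul]; group)
    let φ : MulAut G := MulEquiv.ofBijective (MonoidHom.mk' f hfmul)
      (Finite.injective_iff_bijective.mp hfinj)
    obtain ⟨x, hx'⟩ := hout φ
    have h2 : ∀ g, y * y * Ψ g * (y * y)⁻¹ = Ψ x * Ψ g * (Ψ x)⁻¹ := fun g => by
      have e1 : Ψ (f (f g)) = Ψ (x * g * x⁻¹) := congrArg Ψ (hx' g)
      rw [hf, hf, map_mul, map_mul, map_inv] at e1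
      rw [← e1]; group
    set Z := (Ψ x)⁻¹ * (y * y) with hZ
    have hZc : ∀ g, Z * Ψ g = Ψ g * Z := fun g => by
      have e1 : Z * Ψ g * Z⁻¹ = Ψ g := by
        rw [hZ, show (Ψ x)⁻¹ * (y * y) * Ψ g * ((Ψ x)⁻¹ * (y * y))⁻¹ =
          (Ψ x)⁻¹ * (y * y * Ψ g * (y * y)⁻¹) * Ψ x by group, h2]
        group
      exact mul_inv_eq_iff_eq_mul.mp e1
    obtain ⟨c, hcZ⟩ := hcent (Z : GL chevE6.Idx K) fun g => by
      rw [← Units.val_mul, hZc, Units.val_mul]
    have hZall : ∀ h : GL chevE6.Idx K, Z * h = h * Z := fun h => Units.ext (by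
      show (Z : Matrix chevE6.Idx chevE6.Idx K) * h = h * Z
      rw [hcZ, smul_mul_assoc, mul_smul_comm, one_mul, mul_one])
    set γ₃ := (γ' * (d ^ a * γ' * (d ^ a)⁻¹))⁻¹ * Ψ x with hγ₃
    have hγ₃G : γ₃ ∈ C.A.grp :=
      mul_mem (inv_mem (mul_mem hγ'G (hgrpm a γ' hγ'G))) (hR ⟨x, rfl⟩)
    have hd2 : d ^ (2 * a) = γ₃ * Z := by
      rw [hγ₃, hZ, hy, two_mul, pow_add]; group
    obtain ⟨H₀, hH₀, -, hfix, e, he, heU, hco, he2, hsyl⟩ := exists_sub C
    refine range_of_conj C hH₀ hfix he heU hco he2 hsyl (u ^ (2 * a))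
      (δ := d ^ (2 * a)) (χ := fun r => (χ r : K) ^ (2 * a)) (hx (2 * a))
      (fun i => by simp [hχu]) (g := γ₃⁻¹) (inv_mem hγ₃G) fun h hh => ?_
    have e3 : γ₃⁻¹ * (d ^ (2 * a) * h * (d ^ (2 * a))⁻¹) * γ₃⁻¹⁻¹ = h := by
      rw [hd2, show γ₃⁻¹ * (γ₃ * Z * h * (γ₃ * Z)⁻¹) * γ₃⁻¹⁻¹ = Z * h * Z⁻¹ by group, hZall,
        mul_inv_cancel_right]
    rw [e3]; exact hh
  have hgG : (g : GL chevE6.Idx K) ∈ C.A.grp :=
    show (g : GL chevE6.Idx K) ∈ C.W.G1 by rw [hG]; exact g.2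
  obtain ⟨a, ha0, ha3, hma⟩ : ∃ a : ℕ, 0 < a ∧ a < 3 ∧ u ^ (2 * a) ∈ C.A.chiHom.range := by
    rcases Nat.lt_or_ge j.val i.val with hlt | hge
    · refine ⟨i.val - j.val, by omega, by omega, main _ j.val g hgG fun h hh => ?_⟩
      rw [Nat.add_sub_cancel' hlt.le]
      exact hkey h hh
    · have : i.val ≠ j.val := fun h => hij (Fin.ext h)
      refine ⟨j.val - i.val, by omega, by omega, main _ i.val _ (inv_mem hgG) fun h hh => ?_⟩
      rw [Nat.add_sub_cancel' hge, inv_inv]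
      exact hkey' h hh
  have hu3 : u ^ 3 ∈ C.A.chiHom.range := by
    have := C.A.chiHom.range.pow_index_mem u
    rwa [hidx] at this
  refine hu ?_
  rcases (by omega : a = 1 ∨ a = 2) with rfl | rfl
  · have := mul_mem hu3 (inv_mem hma)
    rwa [mul_one, pow_succ', mul_inv_cancel_right] at this
  · have := mul_mem hma (inv_mem hu3)
    rwa [show 2 * 2 = 3 + 1 from rfl, pow_succ', mul_inv_cancel_right] at this

end CfsgLib.Coset.Fi22E6
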