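import Cfsg.Agent.Coset.Fi22E6.Rep

/-!
Only scalars commute with the images of the generators `b, …, i`.
-/

set_option autoImplicit false
set_option maxRecDepth 100000

namespace CfsgLib.Coset.Fi22E6

open Cfsg.Lie Matrix CfsgLib.Coset.J4.Mat

variable {K : Type*} [Field K] [CharP K 2]

theorem comm_word {X : Matrix (Fin 78) (Fin 78) K}
    (hX : ∀ l, 1 ≤ l → l < 9 → X * bM K (mL.getD l []) = bM K (mL.getD l []) * X) :
    ∀ r : List ℕ, (∀ l ∈ r, 1 ≤ l ∧ l < 9) →
      X * (matWord 78 mL r).map (inc K) = (matWord 78 mL r).map (inc K) * X := by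
  intro r
  induction r with
  | nil => intro _; simp [matWord, Matrix.map_one]
  | cons l r ih =>
    intro h
    rw [matWord_cons, Matrix.map_mul, ← mul_assoc, show (matOf 78 (mL.getD l [])).map (inc K) =
      bM K (mL.getD l []) from rfl, hX l (h l (by simp)).1 (h l (by simp)).2, mul_assoc,
      ih (fun x hx => h x (by simp [hx])), mul_assoc]

theorem bM_xor_word {X : Matrix (Fin 78) (Fin 78) K}
    (hX : ∀ l, 1 ≤ l → l < 9 → X * bM K (mL.getD l []) = bM K (mL.getD l []) * X) :
    X * bM K zRows = bM K zRows * X := by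
  have hl : ∀ k, ∀ l ∈ zw.getD k [], (mL.getD l []).length = 78 :=
    fun k l h => lens.2.2.1 l (lens.2.2.2.2.2.1 k l h).2
  have e : matOf 78 zRows = matWord 78 mL (zw.getD 0 []) +
      (matWord 78 mL (zw.getD 1 []) + matWord 78 mL (zw.getD 2 [])) := by
    refine Matrix.ext fun i j => ?_
    have h1 := Nat.eq_of_beq_eq_true (CfsgLib.Coset.of_allBelow z_ok i i.2)
    have hw' : ∀ k, rowVec 78 (vw mL (2 ^ (i : Nat)) (zw.getD k [])) =
        fun j => matWord 78 mL (zw.getD k []) i j := fun k => by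
      rw [rowVec_vw _ (hl k), rowVec_pow, Matrix.single_one_vecMul]
      rfl
    have h2 : rowVec 78 (zRows.getD i 0) j = _ := congrArg (fun n => rowVec 78 n j) h1
    rw [rowVec_xor, rowVec_xor, show Nat.pow 2 (i : Nat) = 2 ^ (i : Nat) from rfl, hw' 0, hw' 1,
      hw' 2] at h2
    exact h2
  have hm : ∀ k, X * (matWord 78 mL (zw.getD k [])).map (inc K) =
      (matWord 78 mL (zw.getD k [])).map (inc K) * X :=
    fun k => comm_word hX _ (lens.2.2.2.2.2.1 k)
  rw [bM, e, Matrix.map_add _ (map_add _), Matrix.map_add _ (map_add _)]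
  simp only [mul_add, add_mul, hm]

theorem commutant_scalar {X : Matrix (Fin 78) (Fin 78) K}
    (hX : ∀ l, 1 ≤ l → l < 9 → X * bM K (mL.getD l []) = bM K (mL.getD l []) * X) :
    ∃ c : K, X = c • 1 := by
  obtain ⟨⟨-, -, -, -, hzl, hyl, hbl, hswl, hsvl⟩, -, hml, -, -, -, hsel⟩ := lens
  set v : Fin 78 → K := inc K ∘ rowVec 78 kv with hv
  have hr0 : inc K ∘ rowVec 78 0 = (0 : Fin 78 → K) := by
    funext j; simp [rowVec, bz]
  have hvZ : v ᵥ* bM K zRows = 0 := by
    rw [hv, ← inc_vm hzl, Nat.eq_of_beq_eq_true zv_ok, hr0]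
  have hker : ∀ u : Fin 78 → K, u ᵥ* bM K zRows = 0 →
      u + (u ⬝ᵥ fun i : Fin 78 => CfsgLib.Chev.bitF K (cv.testBit i.val)) • v = 0 := by
    intro u hu
    have e : bM K zRows * bM K yRows =
        1 + Matrix.vecMulVec (fun i : Fin 78 => CfsgLib.Chev.bitF K (cv.testBit i.val)) v := by
      refine Matrix.ext fun i j => ?_
      have h1 := Nat.eq_of_beq_eq_true (CfsgLib.Coset.of_allBelow y_ok i i.2)
      have h2 := congrFun (congrArg (fun n => inc K ∘ rowVec 78 n) h1) j
      rw [inc_vm hyl] at h2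
      rw [show (bM K zRows * bM K yRows) i j = ((inc K ∘ rowVec 78 (zRows.getD i 0)) ᵥ* bM K yRows) j
        from rfl, h2, Matrix.add_apply, Matrix.vecMulVec_apply, Function.comp_apply, rowVec_xor,
        Pi.add_apply, map_add, show Nat.pow 2 (i : Nat) = 2 ^ (i : Nat) from rfl, rowVec_pow]
      congr 1
      · rw [Matrix.one_apply, Pi.single_apply, apply_ite (inc K), map_one, map_zero]
        simp [eq_comm]
      · cases cv.testBit i.val
        · simp [rowVec, bz, CfsgLib.Chev.bitF]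
        · simp [CfsgLib.Chev.bitF, hv]
    have h0 := congrArg (fun x => x ᵥ* bM K yRows) hu
    simp only [vecMul_vecMul, zero_vecMul, e, vecMul_add, vecMul_one, vecMul_vecMulVec] at h0
    exact h0
  have hvX : (v ᵥ* X) ᵥ* bM K zRows = 0 := by
    rw [vecMul_vecMul, bM_xor_word hX, ← vecMul_vecMul, hvZ, zero_vecMul]
  obtain ⟨c, hc⟩ : ∃ c : K, v ᵥ* X = c • v :=
    ⟨-((v ᵥ* X) ⬝ᵥ fun i : Fin 78 => CfsgLib.Chev.bitF K (cv.testBit i.val)), by
      rw [neg_smul]; exact eq_neg_of_add_eq_zero_left (hker _ hvX)⟩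
  have hrows : ∀ i : Fin 78, (inc K ∘ rowVec 78 (selV.getD i.val 0)) ᵥ* X =
      c • (inc K ∘ rowVec 78 (selV.getD i.val 0)) ∧
      (inc K ∘ rowVec 78 (selV.getD i.val 0)) ᵥ* bM K bInv = Pi.single i 1 := by
    intro i
    have h := CfsgLib.Coset.of_allBelow sel_ok i i.2
    rw [CfsgLib.Coset.cond_false_eq_true] at h
    have e1 : inc K ∘ rowVec 78 (selV.getD i.val 0) =
        v ᵥ* (matWord 78 mL (selW.getD i.val [])).map (inc K) := by
      funext j
      rw [← Nat.eq_of_beq_eq_true h.1, Function.comp_apply,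
        rowVec_vw _ fun l hl => hml l (hsel _ l hl).2]
      exact RingHom.map_vecMul (inc K) _ _ j
    refine ⟨?_, ?_⟩
    · rw [e1, vecMul_vecMul, ← comm_word hX _ (hsel _), ← vecMul_vecMul, hc, smul_vecMul]
    · rw [← inc_vm hbl, Nat.eq_of_beq_eq_true h.2, show Nat.pow 2 (i : Nat) = 2 ^ (i : Nat) from rfl,
        rowVec_pow]
      funext j
      rw [Function.comp_apply, Pi.single_apply, Pi.single_apply, apply_ite (inc K), map_one, map_zero]
  let V : Matrix (Fin 78) (Fin 78) K := Matrix.of fun i => inc K ∘ rowVec 78 (selV.getD i.val 0)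
  have hVX : V * X = c • V := Matrix.ext fun i j => congrFun (hrows i).1 j
  have hVB : V * bM K bInv = 1 := Matrix.ext fun i j => by
    rw [show (V * bM K bInv) i j = ((inc K ∘ rowVec 78 (selV.getD i.val 0)) ᵥ* bM K bInv) j from rfl,
      (hrows i).2, Pi.single_apply, Matrix.one_apply]
    simp [eq_comm]
  refine ⟨c, ?_⟩
  calc X = (bM K bInv * V) * X := by rw [mul_eq_one_comm.mp hVB, one_mul]
    _ = bM K bInv * (c • V) := by rw [mul_assoc, hVX]
    _ = c • 1 := by rw [mul_smul_comm, mul_eq_one_comm.mp hVB]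

theorem hom_commutant {w : K} (hw : IsW w) {Y : Matrix chevE6.Idx chevE6.Idx K}
    (h : ∀ l, 1 ≤ l → l < 9 → Y * ((hom hw (fl Fi22.Lg l) : GL chevE6.Idx K) : Matrix chevE6.Idx chevE6.Idx K) =
      ((hom hw (fl Fi22.Lg l) : GL chevE6.Idx K) : Matrix chevE6.Idx chevE6.Idx K) * Y) :
    ∃ c : K, Y = c • 1 := by
  set Y' : Matrix (Fin 78) (Fin 78) K := Y.submatrix eI.symm eI.symm with hY'
  obtain ⟨c, hc⟩ := commutant_scalar (X := pM w sP * Y' * pM w tP) (fun l h1 h9 => by
    have h2 := congrArg (fun M => pM w sP * M.submatrix eI.symm eI.symm * pM w tP) (h l h1 h9)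
    simp only [hom_fl hw h9, coe_fl hw h9, emb, ← submatrix_mul_equiv _ _ eI.symm eI.symm eI.symm,
      submatrix_submatrix, Equiv.self_comp_symm, submatrix_id_id] at h2
    rw [show (matOf 78 (mL.getD l [])).map (inc K) = bM K (mL.getD l []) from rfl] at h2
    simp only [← mul_assoc, S_mul_T hw, one_mul] at h2
    simp only [mul_assoc, S_mul_T hw, mul_one] at h2 ⊢
    simpa only [mul_assoc] using h2)
  refine ⟨c, ?_⟩
  have e : Y' = c • 1 := by
    have := congrArg (fun M => pM w tP * M * pM w sP) hc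
    simp only [← mul_assoc, T_mul_S hw, one_mul, mul_smul_comm, smul_mul_assoc, mul_one] at this
    simpa only [mul_assoc, T_mul_S hw, mul_one] using this
  have := congrArg (fun M => M.submatrix eI eI) e
  simpa [hY', submatrix_smul] using this

end CfsgLib.Coset.Fi22E6
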