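import Cfsg.Agent.Coset.Fi22E6.Data
import Cfsg.Agent.Coset.Fi22E6.RepData
import Cfsg.Agent.Coset.J4.RepKernel
import Cfsg.Agent.Chev.InvolTwoMask
import Mathlib.LinearAlgebra.Matrix.GeneralLinearGroup.Basic

/-!
Matrices over four elements as pairs of bit rows.
-/

set_option autoImplicit false

namespace CfsgLib.Coset.Fi22E6

open CfsgLib.Coset.J4.Mat Matrix

section Kernel

/-- A pair row times a pair matrix, the second parts standing at `ω`. -/
noncomputable def pvm (P : List Nat × List Nat) (p : Nat × Nat) : Nat × Nat :=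
  (Nat.xor (vm P.1 p.1) (vm P.2 p.2),
    Nat.xor (vm P.2 p.1) (Nat.xor (vm P.1 p.2) (vm P.2 p.2)))

/-- A pair row followed through a product of pair matrices. -/
noncomputable def pvw (p : Nat × Nat) (L : List (List Nat × List Nat)) : Nat × Nat :=
  List.rec (fun p => p)
    (fun P _ ih p => Nat.rec (motive := fun _ => Nat × Nat)
      (Nat.rec (motive := fun _ => Nat × Nat) (ih (0, 0)) (fun n _ => ih (0, Nat.add n 1)) (pvm P p).2)
      (fun n _ => Nat.rec (motive := fun _ => Nat × Nat) (ih (Nat.add n 1, 0))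
        (fun m _ => ih (Nat.add n 1, Nat.add m 1)) (pvm P p).2) (pvm P p).1) L p

/-- Two products of pair matrices have the same rows. -/
noncomputable def peqOK (L L' : List (List Nat × List Nat)) : Bool :=
  CfsgLib.Coset.allBelow 7 78 fun i => cond (Nat.beq (pvw (Nat.pow 2 i, 0) L).1 (pvw (Nat.pow 2 i, 0) L').1)
    (Nat.beq (pvw (Nat.pow 2 i, 0) L).2 (pvw (Nat.pow 2 i, 0) L').2) false

/-- The rows of a product of bit matrices. -/
noncomputable def rowsOK (L : List (List Nat)) (w : List Nat) (R : List Nat) : Bool :=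
  CfsgLib.Coset.allBelow 7 78 fun i => Nat.beq (vw L (Nat.pow 2 i) w) (R.getD i 0)

end Kernel

theorem pvw_nil (p : Nat × Nat) : pvw p [] = p := rfl

theorem pvw_cons (P : List Nat × List Nat) (L : List (List Nat × List Nat)) (p : Nat × Nat) :
    pvw p (P :: L) = pvw (pvm P p) L := by
  show Nat.rec (motive := fun _ => Nat × Nat)
      (Nat.rec (motive := fun _ => Nat × Nat) (pvw (0, 0) L) (fun n _ => pvw (0, n + 1) L) (pvm P p).2)
      (fun n _ => Nat.rec (motive := fun _ => Nat × Nat) (pvw (n + 1, 0) L)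
        (fun m _ => pvw (n + 1, m + 1) L) (pvm P p).2) (pvm P p).1 = _
  generalize pvm P p = q
  rcases q with ⟨_ | a, _ | b⟩ <;> rfl

variable {K : Type*} [Field K]

/-- The embedding of the field of two elements. -/
noncomputable def inc (K : Type*) [Field K] [CharP K 2] : ZMod 2 →+* K := ZMod.castHom (dvd_refl 2) K

variable [CharP K 2]

theorem inc_bz (b : Bool) : inc K (bz b) = CfsgLib.Chev.bitF K b := by
  cases b <;> simp [bz, CfsgLib.Chev.bitF]

/-- A bit matrix over the bigger field. -/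
noncomputable def bM (K : Type*) [Field K] [CharP K 2] (R : List Nat) :
    Matrix (Fin 78) (Fin 78) K := (matOf 78 R).map (inc K)

/-- A pair matrix. -/
noncomputable def pM (w : K) (P : List Nat × List Nat) : Matrix (Fin 78) (Fin 78) K :=
  bM K P.1 + w • bM K P.2

/-- A pair row. -/
noncomputable def pR (w : K) (p : Nat × Nat) : Fin 78 → K :=
  (inc K ∘ rowVec 78 p.1) + w • (inc K ∘ rowVec 78 p.2)

theorem rowVec_xor (n a b : Nat) : rowVec n (Nat.xor a b) = rowVec n a + rowVec n b := by
  funext j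
  show bz ((a ^^^ b).testBit j) = _
  rw [Nat.testBit_xor, bz_xor]
  rfl

theorem inc_vm {R : List Nat} (h : R.length = 78) (v : Nat) :
    inc K ∘ rowVec 78 (vm R v) = (inc K ∘ rowVec 78 v) ᵥ* bM K R := by
  funext j
  rw [Function.comp_apply, rowVec_vm h]
  exact RingHom.map_vecMul (inc K) (matOf 78 R) (rowVec 78 v) j

theorem pR_pvm {w : K} (hw : w * w = w + 1) {P : List Nat × List Nat} (h1 : P.1.length = 78)
    (h2 : P.2.length = 78) (p : Nat × Nat) : pR w (pvm P p) = pR w p ᵥ* pM w P := by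
  have hx : ∀ a b, inc K ∘ rowVec 78 (Nat.xor a b) = inc K ∘ rowVec 78 a + inc K ∘ rowVec 78 b := by
    intro a b
    funext j
    show inc K (rowVec 78 (Nat.xor a b) j) = inc K (rowVec 78 a j) + inc K (rowVec 78 b j)
    rw [rowVec_xor, Pi.add_apply, map_add]
  simp only [pR, pvm, hx, inc_vm h1, inc_vm h2, pM, vecMul_add, add_vecMul, smul_vecMul,
    vecMul_smul, smul_add, smul_smul, hw]
  module

theorem pR_pvw {w : K} (hw : w * w = w + 1) : ∀ (L : List (List Nat × List Nat)),
    (∀ P ∈ L, P.1.length = 78 ∧ P.2.length = 78) → ∀ p,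
      pR w (pvw p L) = pR w p ᵥ* (L.map (pM w)).prod := by
  intro L
  induction L with
  | nil => intro _ p; simp [pvw_nil]
  | cons P L ih =>
    intro h p
    rw [pvw_cons, ih (fun Q hQ => h Q (by simp [hQ])),
      pR_pvm hw (h P (by simp)).1 (h P (by simp)).2, vecMul_vecMul, List.map_cons, List.prod_cons]

theorem pR_unit (w : K) (i : Fin 78) : pR w (2 ^ (i : Nat), 0) = Pi.single i 1 := by
  funext j
  simp only [pR, rowVec_pow, Pi.add_apply, Pi.smul_apply, Function.comp_apply]
  rw [show rowVec 78 0 j = 0 by simp [rowVec, bz]]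
  rcases eq_or_ne j i with rfl | h
  · simp
  · simp [Pi.single_eq_of_ne h]

theorem prod_eq_of_peqOK {w : K} (hw : w * w = w + 1) {L L' : List (List Nat × List Nat)}
    (hl : ∀ P ∈ L, P.1.length = 78 ∧ P.2.length = 78)
    (hl' : ∀ P ∈ L', P.1.length = 78 ∧ P.2.length = 78) (h : peqOK L L' = true) :
    (L.map (pM w)).prod = (L'.map (pM w)).prod := by
  refine Matrix.ext fun i j => ?_
  have h1 := CfsgLib.Coset.of_allBelow h i i.2
  rw [CfsgLib.Coset.cond_false_eq_true] at h1
  have e : pvw (2 ^ (i : Nat), 0) L = pvw (2 ^ (i : Nat), 0) L' :=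
    Prod.ext (Nat.eq_of_beq_eq_true h1.1) (Nat.eq_of_beq_eq_true h1.2)
  have e1 := congrFun (pR_pvw hw L hl (2 ^ (i : Nat), 0)) j
  have e2 := congrFun (pR_pvw hw L' hl' (2 ^ (i : Nat), 0)) j
  rw [pR_unit, single_one_vecMul] at e1 e2
  rw [e] at e1
  exact e1.symm.trans e2

theorem matWord_eq_of_rowsOK {L : List (List Nat)} {w : List Nat} {R : List Nat}
    (hl : ∀ l ∈ w, (L.getD l []).length = 78) (h : rowsOK L w R = true) :
    matWord 78 L w = matOf 78 R := by
  refine Matrix.ext fun i j => ?_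
  have h1 := Nat.eq_of_beq_eq_true (CfsgLib.Coset.of_allBelow h i i.2)
  have h2 := congrFun (rowVec_vw w hl (2 ^ (i : Nat))) j
  rw [show vw L (2 ^ (i : Nat)) w = R.getD (i : Nat) 0 from h1, rowVec_pow,
    Matrix.single_one_vecMul] at h2
  exact h2.symm

end CfsgLib.Coset.Fi22E6
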