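import Cfsg.Agent.Coset.Fi22E6.Comm
import Cfsg.Agent.Coset.Fi22E6.Classes
import Cfsg.Agent.Coset.Fi22Out.Out
import Cfsg.Agent.Coset.O73.InFi22
import Cfsg.Agent.Quad.POmega
import Cfsg.Agent.AutPOm.OutOdd
import Cfsg.Agent.ChevAut.CoefChar

/-!
Three classes of `Fi₂₂` and of `Ω₇(3)` in `²E₆(2)`.
-/

set_option autoImplicit false

namespace CfsgLib.Coset.Fi22E6

open Cfsg.Lie Matrix CfsgLib.Coset
open scoped MatrixGroups

variable {K : Type*} [Field K] [Fintype K]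

theorem exists_w (hK : Fintype.card K = 4) : ∃ _ : CharP K 2, ∃ w : K, w * w = w + 1 := by
  have hc : CharP K 2 := by
    obtain ⟨p, hp⟩ := CharP.exists K
    obtain ⟨n, hpr, hn⟩ := FiniteField.card K p
    rw [hK] at hn
    obtain rfl : p = 2 := (Nat.prime_dvd_prime_iff_eq hpr Nat.prime_two).mp
      (hpr.dvd_of_dvd_pow (m := 2) (n := 2) (by
        rw [show (2 : ℕ) ^ 2 = 4 by norm_num, hn]; exact dvd_pow_self p n.ne_zero))
    exact hp
  refine ⟨hc, ?_⟩
  classical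
  obtain ⟨z, hz⟩ : ∃ z : K, z ∉ ({0, 1} : Finset K) := by
    by_contra h
    simp only [not_exists, not_not] at h
    have h2 : Finset.univ.card ≤ ({0, 1} : Finset K).card := Finset.card_le_card fun z _ => h z
    rw [Finset.card_univ, hK] at h2
    exact absurd (h2.trans Finset.card_le_two) (by norm_num)
  simp only [Finset.mem_insert, Finset.mem_singleton, not_or] at hz
  have h4 : z ^ 4 = z := by
    have := FiniteField.pow_card z
    rwa [hK] at this
  refine ⟨z, ?_⟩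
  have h3 : (z * (z - 1)) * (z ^ 2 + z + 1) = 0 := by linear_combination h4
  have h5 := (mul_eq_zero.mp h3).resolve_left (mul_ne_zero hz.1 (sub_ne_zero.mpr hz.2))
  linear_combination h5 - (CharTwo.two_eq_zero : (2 : K) = 0) * (z + 1)

theorem classes_fi22 (hK : Fintype.card K = 4) :
    ∃ H : Fin 3 → Subgroup (twistedE6 K 2),
      (∀ i, Nonempty ((H i) ≃* Cfsg.Spor.Fi22)) ∧
      ∀ i j, i ≠ j → ∀ g : twistedE6 K 2, (H i).map (MulAut.conj g).toMonoidHom ≠ H j := by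
  obtain ⟨hc, w, hw⟩ := exists_w hK
  exact three_of hK (hom hw) (hom_injective hw) (hom_mem hw)
    (fun Y hY => hom_commutant hw fun l _ _ => hY _)
    (sq_inner_of_card_out Fi22Out.card_out)

theorem card_out_o73 : Nat.card (Cfsg.Out (Cfsg.POmega (ZMod 3) (Cfsg.quadFormOdd 3 (ZMod 3)))) = 2 := by
  have : Fact (Nat.Prime 3) := ⟨Nat.prime_three⟩
  obtain ⟨e⟩ := CfsgLib.AutPOm.out_odd (F := ZMod 3) (p := 3) (f := 1) (m := 3) le_rfl
    (by simp) (by norm_num) le_rfl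
  rw [← CfsgLib.Quad.oddQ_coe, Nat.card_congr e.toEquiv]
  simp

theorem omega_equiv : Nonempty (Cfsg.POmega (ZMod 3) (Cfsg.quadFormOdd 3 (ZMod 3)) ≃*
    Cfsg.Omega (ZMod 3) (Cfsg.quadFormOdd 3 (ZMod 3))) := by
  have h2 : (2 : ZMod 3) ≠ 0 := by decide
  have : Fact (Nat.Prime 3) := ⟨Nat.prime_three⟩
  have hQ : (QuadraticMap.polarBilin (CfsgLib.Quad.oddQ (F := ZMod 3) 3)).Nondegenerate :=
    CfsgLib.Quad.oddQ_nondeg h2 3
  have hd : Module.finrank (ZMod 3) (Unit ⊕ (Fin 3 ⊕ Fin 3) → ZMod 3) = 7 := by simp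
  have hc := CfsgLib.Quad.card_center_omega_one hQ (by omega)
    (Or.inr (CfsgLib.Quad.negIso_notMem_of_odd h2 (by rw [hd]; decide)))
  have hb : Subgroup.center ↥(Cfsg.Omega (ZMod 3) ⇑(CfsgLib.Quad.oddQ (F := ZMod 3) 3)) = ⊥ := by
    rw [← Subgroup.card_eq_one, ← hc, ← CfsgLib.Quad.map_center_equiv
      (CfsgLib.Quad.omegaEquiv (CfsgLib.Quad.oddQ (F := ZMod 3) 3)),
      Subgroup.card_map_of_injective (MulEquiv.injective _)]
  rw [← CfsgLib.Quad.oddQ_coe]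
  exact ⟨(QuotientGroup.quotientMulEquivOfEq hb).trans QuotientGroup.quotientBot⟩

theorem classes_o73 (hK : Fintype.card K = 4) :
    ∃ H : Fin 3 → Subgroup (twistedE6 K 2),
      (∀ i, Nonempty ((H i) ≃* Cfsg.Omega (ZMod 3) (Cfsg.quadFormOdd 3 (ZMod 3)))) ∧
      ∀ i j, i ≠ j → ∀ g : twistedE6 K 2, (H i).map (MulAut.conj g).toMonoidHom ≠ H j := by
  obtain ⟨hc, w, hw⟩ := exists_w hK
  obtain ⟨e⟩ := O73.nonempty_in_Fi22
  obtain ⟨e'⟩ := omega_equiv
  set G := genBy Fi22.Lg [1, 2, 3, 4, 5, 6, 7, 8]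
  have hout : ∀ φ : MulAut G, ∃ x : G, ∀ g, φ (φ g) = x * g * x⁻¹ := by
    intro φ
    obtain ⟨x, hx⟩ := sq_inner_of_card_out card_out_o73 ((e.symm.trans φ).trans e)
    refine ⟨e.symm x, fun g => e.injective ?_⟩
    have := hx (e g)
    simpa using this
  obtain ⟨H, h1, h2⟩ := three_of hK ((hom hw).comp G.subtype)
    ((hom_injective hw).comp G.subtype_injective) (fun g => hom_mem hw _)
    (fun Y hY => hom_commutant hw fun l h1 h9 =>
      hY ⟨fl Fi22.Lg l, Subgroup.subset_closure (List.mem_map.mpr ⟨l, by simp; omega, rfl⟩)⟩) hout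
  exact ⟨H, fun i => (h1 i).map fun f => (f.trans e).trans e', h2⟩

end CfsgLib.Coset.Fi22E6
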