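import Cfsg.Agent.Coset.Fi22E6.Root
import Cfsg.Agent.Coset.Fi22E6.Checks
import Cfsg.Agent.Coset.Fi22.Order
import Cfsg.Agent.Chev.E6TwOut

/-!
`Fi₂₂` inside `²E₆(2)`: the representation and its absolute irreducibility.
-/

set_option autoImplicit false
set_option maxRecDepth 100000

namespace CfsgLib.Coset.Fi22E6

open Cfsg.Lie Matrix CfsgLib.Coset.J4.Mat
open scoped MatrixGroups

variable {K : Type*} [Field K] [CharP K 2]

theorem lens : (tLo.length = 78 ∧ tHi.length = 78 ∧ sLo.length = 78 ∧ sHi.length = 78 ∧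
    zRows.length = 78 ∧ yRows.length = 78 ∧ bInv.length = 78 ∧ selW.length = 78 ∧
    selV.length = 78) ∧
    (∀ g < 12, (aL.getD g []).length = 78) ∧ (∀ l < 9, (mL.getD l []).length = 78) ∧
    (∀ g : ℕ, ∀ n ∈ gw.getD g [], n < 20) ∧ (∀ k : ℕ, ∀ g ∈ wd.getD k [], g < 12) ∧
    (∀ k : ℕ, ∀ l ∈ zw.getD k [], 1 ≤ l ∧ l < 9) ∧
    (∀ k : ℕ, ∀ l ∈ selW.getD k [], 1 ≤ l ∧ l < 9) := by
  have h := lens_ok
  simp only [lensOK, Bool.and_eq_true, Nat.beq_eq, List.all_eq_true, Nat.blt_eq, Nat.ble_eq] at h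
  obtain ⟨⟨⟨⟨⟨⟨⟨⟨⟨⟨⟨⟨⟨⟨⟨⟨h1, h2⟩, h3⟩, h4⟩, h5⟩, h6⟩, h7⟩, h8⟩, h9⟩, ha⟩, hm⟩, ha'⟩, hm'⟩, hg⟩,
    hw⟩, hz⟩, hs⟩ := h
  refine ⟨⟨h1, h2, h3, h4, h5, h6, h7, h8, h9⟩, fun g hg => ?_, fun l hl => ?_, ?_, ?_, ?_, ?_⟩
  · rw [List.getD_eq_getElem _ _ (by omega)]; exact ha' _ (List.getElem_mem _)
  · rw [List.getD_eq_getElem _ _ (by omega)]; exact hm' _ (List.getElem_mem _)
  all_goals
    intro k n hn
    rcases Nat.lt_or_ge k (List.length _) with hk | hk
    · rw [List.getD_eq_getElem _ _ hk] at hn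
      first
        | exact hg _ (List.getElem_mem _) n hn
        | exact hw _ (List.getElem_mem _) n hn
        | exact hz _ (List.getElem_mem _) n hn
        | exact hs _ (List.getElem_mem _) n hn
    · rw [List.getD_eq_default _ _ hk] at hn
      simp at hn

theorem bM_zero : bM K (List.replicate 78 0) = 0 := by
  refine Matrix.ext fun i j => ?_
  show inc K (bz (((List.replicate 78 (0 : Nat)).getD i.val 0).testBit j.val)) = 0
  rw [List.getD_replicate _ i.isLt, Nat.zero_testBit]
  simp [bz]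

theorem pM_rat (w : K) (R : List Nat) : pM w (ratP R) = bM K R := by
  rw [pM, ratP, bM_zero, smul_zero, add_zero]

/-- The basic data: a root of `X² + X + 1`. -/
def IsW (w : K) : Prop := w * w = w + 1

variable {w : K} (hw : IsW w)
include hw

theorem T_mul_S : pM w tP * pM w sP = 1 := by
  have h := prod_eq_of_peqOK hw (L := [tP, sP]) (L' := [])
    (by simp [tP, sP, lens.1]) (by simp) ts_ok
  simpa using h

theorem S_mul_T : pM w sP * pM w tP = 1 := mul_eq_one_comm.mp (T_mul_S hw)

omit hw in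
/-- The conjugated embedding of rational matrices. -/
noncomputable def emb (w : K) (A : Matrix (Fin 78) (Fin 78) (ZMod 2)) :
    Matrix chevE6.Idx chevE6.Idx K :=
  (pM w tP * A.map (inc K) * pM w sP).submatrix eI eI

theorem emb_one : emb w 1 = 1 := by
  rw [emb, Matrix.map_one _ (map_zero _) (map_one _), mul_one, T_mul_S hw, submatrix_one_equiv]

theorem emb_mul (A B : Matrix (Fin 78) (Fin 78) (ZMod 2)) :
    emb w (A * B) = emb w A * emb w B := by
  rw [emb, emb, emb, submatrix_mul_equiv, Matrix.map_mul]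
  congr 1
  simp only [mul_assoc]
  rw [← mul_assoc (pM w sP) (pM w tP), S_mul_T hw, one_mul]

theorem emb_inj : Function.Injective (emb w) := by
  intro A B h
  have h1 := congrArg (fun M => M.submatrix eI.symm eI.symm) h
  simp only [emb, submatrix_submatrix, Equiv.self_comp_symm, submatrix_id_id] at h1
  have h2 := congrArg (fun M => pM w sP * M * pM w tP) h1
  simp only [← mul_assoc, S_mul_T hw, one_mul] at h2
  simp only [mul_assoc, S_mul_T hw, mul_one] at h2
  refine Matrix.ext fun i j => ?_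
  exact (inc K).injective (congrFun (congrFun h2 i) j)

omit hw in
/-- The root words of the generators. -/
def gWord (w : K) (g : ℕ) : List (ℕ × K) :=
  (gw.getD g []).map fun n => (rootOf n, tval w (items.getD n (0, 0)).2)

theorem wordMat_gWord (g : ℕ) (hg : g < 12) :
    chevE6.wordMat K (gWord w g) = emb w (matOf 78 (aL.getD g [])) := by
  have hn : ∀ n ∈ gw.getD g [], n < 20 := lens.2.2.2.1 g
  have hok : peqOK (gP g ++ [tP]) [tP, ratP (aL.getD g [])] = true := by
    rcases Nat.lt_or_ge g 6 with h | h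
    · exact List.all_eq_true.mp gen_ok0 g (List.mem_range.mpr h)
    · exact List.all_eq_true.mp gen_ok1 g (by simp; omega)
  have h := prod_eq_of_peqOK hw (L := gP g ++ [tP]) (L' := [tP, ratP (aL.getD g [])])
    (by
      intro P hP
      rcases List.mem_append.mp hP with hP | hP
      · obtain ⟨n, hn', rfl⟩ := List.mem_map.mp hP
        exact (X_item hw (hn n hn')).1
      · rw [List.mem_singleton.mp hP]; exact ⟨lens.1.1, lens.1.2.1⟩)
    (by
      intro P hP
      simp only [List.mem_cons, List.not_mem_nil, or_false] at hP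
      rcases hP with rfl | rfl
      · exact ⟨lens.1.1, lens.1.2.1⟩
      · exact ⟨lens.2.1 g hg, List.length_replicate⟩) hok
  rw [List.map_append, List.prod_append] at h
  simp only [List.map_cons, List.map_nil, List.prod_cons, List.prod_nil, mul_one, pM_rat] at h
  have e : chevE6.wordMat K (gWord w g) = ((gP g).map (pM w)).prod.submatrix eI eI := by
    rw [ChevalleyDatum.wordMat, gWord, gP, List.map_map, List.map_map]
    revert hn
    generalize gw.getD g [] = l
    intro hn
    induction l with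
    | nil => simp [submatrix_one_equiv]
    | cons n l ih =>
      rw [List.map_cons, List.prod_cons, List.map_cons, List.prod_cons,
        ih fun m hm => hn m (by simp [hm]), ← submatrix_mul_equiv _ _ eI eI eI]
      refine congrArg₂ (· * ·) ?_ rfl
      show chevE6.x K (rootOf n) (tval w (items.getD n (0, 0)).2) = _
      rw [← CfsgLib.Chev.good_E6.full.coe_x', CfsgLib.Chev.good_E6.full.coe_x (rootOf_lt (hn n (by simp)))]
      exact (X_item hw (hn n (by simp))).2
  rw [e, emb, show (matOf 78 (aL.getD g [])).map (inc K) = bM K (aL.getD g []) from rfl, ← h,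
    mul_assoc, T_mul_S hw, mul_one]

omit [CharP K 2] hw in
theorem gWord_mem (g : ℕ) (hg : g < 12) : gWord w g ∈ e6Words K 2 := by
  interval_cases g <;> simp [gWord, gw, rootOf, roots, items, tval, e6Words, e6p1, e6p2, e6p3, e6p4,
    e6p5, e6p6, e6m1, e6m2, e6m3, e6m4, e6m5, e6m6]

theorem emb_aL_mem {g : ℕ} (hg : g < 12) :
    ∃ x ∈ twistedE6 K 2, ((x : GL chevE6.Idx K) : Matrix chevE6.Idx chevE6.Idx K) =
      emb w (matOf 78 (aL.getD g [])) := by
  refine ⟨((gWord w g).map fun p => CfsgLib.Chev.good_E6.full.x p.1 p.2).prod,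
    Subgroup.subset_closure ⟨gWord w g, gWord_mem g hg, ?_⟩, ?_⟩
  all_goals
    first
      | rw [← wordMat_gWord hw g hg]
      | skip
    rw [ChevalleyDatum.wordMat, ← Units.coeHom_apply, map_list_prod, List.map_map]
    exact congrArg List.prod (List.map_congr_left fun p _ =>
      CfsgLib.Chev.good_E6.full.coe_x' p.1 p.2)

theorem emb_mL_mem {k : ℕ} (hk : k < 9) :
    ∃ x ∈ twistedE6 K 2, ((x : GL chevE6.Idx K) : Matrix chevE6.Idx chevE6.Idx K) =
      emb w (matOf 78 (mL.getD k [])) := by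
  have hlt := lens.2.2.2.2.1 k
  have hl : ∀ g ∈ wd.getD k [], (aL.getD g []).length = 78 := fun g hg => lens.2.1 g (hlt g hg)
  have hok : rowsOK aL (wd.getD k []) (mL.getD k []) = true := by
    rcases Nat.lt_or_ge k 5 with h | h
    · exact List.all_eq_true.mp wd_ok0 k (by simp; omega)
    · exact List.all_eq_true.mp wd_ok1 k (by simp; omega)
  rw [← matWord_eq_of_rowsOK hl hok]
  revert hlt
  generalize wd.getD k [] = l
  intro hlt
  induction l with
  | nil => exact ⟨1, one_mem _, by simp [matWord, emb_one hw]⟩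
  | cons g l ih =>
    obtain ⟨x, hx, ex⟩ := emb_aL_mem hw (hlt g (by simp))
    obtain ⟨y, hy, ey⟩ := ih fun m hm => hlt m (by simp [hm])
    exact ⟨x * y, mul_mem hx hy, by rw [Units.val_mul, ex, ey, matWord_cons, emb_mul hw]⟩

omit hw in
theorem M_rel {r : List Nat} (hr : r ∈ Fi22.rels) : matWord 78 mL r = 1 := by
  refine matWord_eq_one (d := 7) (fun l hl => lens.2.2.1 l ?_) ?_
  · have := List.all_eq_true.mp (List.all_eq_true.mp rels_lens r hr) l hl
    simpa using this
  · rw [← List.take_append_drop 24 Fi22.rels, List.mem_append] at hr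
    rcases hr with hr | hr
    · exact List.all_eq_true.mp rel_ok0 r hr
    · rw [← List.take_append_drop 22 (Fi22.rels.drop 24), List.mem_append, List.drop_drop] at hr
      rcases hr with hr | hr
      · exact List.all_eq_true.mp rel_ok1 r hr
      · exact List.all_eq_true.mp rel_ok2 r hr

omit hw in
theorem M_sq {l : ℕ} (h : l < 9) : matOf 78 (mL.getD l []) * matOf 78 (mL.getD l []) = 1 := by
  have hc : ((List.range 9).all fun l => Fi22.rels.contains [l, l]) = true := by decide +kernel
  have := M_rel (List.contains_iff_mem.mp (List.all_eq_true.mp hc l (List.mem_range.mpr h)))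
  simpa [matWord] using this

/-- The image of a generator. -/
noncomputable def U (l : Fin 9) : GL chevE6.Idx K :=
  ⟨emb w (matOf 78 (mL.getD l.val [])), emb w (matOf 78 (mL.getD l.val [])),
    by rw [← emb_mul hw, M_sq l.2, emb_one hw], by rw [← emb_mul hw, M_sq l.2, emb_one hw]⟩

/-- The images of the generators. -/
noncomputable def L : List (GL chevE6.Idx K) := List.ofFn (U hw)

theorem coe_fl {l : ℕ} (h : l < 9) :
    ((fl (L hw) l : GL chevE6.Idx K) : Matrix chevE6.Idx chevE6.Idx K) =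
      emb w (matOf 78 (mL.getD l [])) := by
  rw [fl, L, List.getD_eq_getElem _ _ (by simpa using h), List.getElem_ofFn]
  rfl

theorem coe_ev : ∀ r : List ℕ, (∀ l ∈ r, l < 9) →
    ((ev (L hw) r : GL chevE6.Idx K) : Matrix chevE6.Idx chevE6.Idx K) =
      emb w (matWord 78 mL r) := by
  intro r
  induction r with
  | nil => intro _; simp [matWord, emb_one hw]
  | cons l r ih =>
    intro h
    rw [ev_cons, Units.val_mul, coe_fl hw (h l (by simp)), ih fun x hx => h x (by simp [hx]),
      matWord_cons, emb_mul hw]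

theorem ev_rels_L : ∀ r ∈ Fi22.pres.rels, ev (L hw) r = 1 := by
  rw [Fi22.rels_eq]
  intro r hr
  refine Units.ext ?_
  rw [coe_ev hw r fun l hl => by
      simpa using List.all_eq_true.mp (List.all_eq_true.mp rels_lens r hr) l hl,
    M_rel hr, emb_one hw, Units.val_one]

/-- The representation. -/
noncomputable def hom : Cfsg.Spor.Fi22 →* GL chevE6.Idx K :=
  Fi22.pres.hom Fi22.pres_ok (ev_rels_L hw)

theorem hom_fl {l : ℕ} (h : l < 9) : hom hw (fl Fi22.Lg l) = fl (L hw) l := by
  obtain ⟨x, rfl⟩ := Fi22.hix l h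
  exact Fi22.pres.hom_fl Fi22.pres_ok (ev_rels_L hw) x

theorem hom_mem (g : Cfsg.Spor.Fi22) : hom hw g ∈ twistedE6 K 2 := by
  have h : (⊤ : Subgroup Cfsg.Spor.Fi22) ≤ (twistedE6 K 2).comap (hom hw) := by
    rw [← Fi22.closure_Lg]
    refine (Subgroup.closure_le _).mpr fun x hx => ?_
    obtain ⟨l, hl, rfl⟩ := List.mem_iff_getElem.mp hx
    have hl9 : l < 9 := Fi22.len_Lg ▸ hl
    obtain ⟨y, hy, ey⟩ := emb_mL_mem hw hl9
    show hom hw _ ∈ twistedE6 K 2
    rw [(List.getD_eq_getElem Fi22.Lg 1 hl).symm, show Fi22.Lg.getD l 1 = fl Fi22.Lg l from rfl,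
      hom_fl hw hl9,
      show fl (L hw) l = y from Units.ext ((coe_fl hw hl9).trans ey.symm)]
    exact hy
  exact h (Subgroup.mem_top g)

theorem hom_injective : Function.Injective (hom hw) := by
  have := Fi22.isSimple
  refine (MonoidHom.ker_eq_bot_iff _).mp
    ((IsSimpleGroup.eq_bot_or_eq_top_of_normal (hom hw).ker inferInstance).resolve_right fun ht => ?_)
  have e := hom_fl hw (l := 0) (by norm_num)
  rw [MonoidHom.ker_eq_top_iff.mp ht, MonoidHom.one_apply] at e
  have e' := congrArg (fun u : GL chevE6.Idx K =>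
    ((u : GL chevE6.Idx K) : Matrix chevE6.Idx chevE6.Idx K)) e
  simp only [coe_fl hw (show 0 < 9 by norm_num), Units.val_one] at e'
  rw [← emb_one hw] at e'
  have h0 : (matOf 78 (mL.getD 0 []) : Matrix (Fin 78) (Fin 78) (ZMod 2)) = 1 :=
    (emb_inj hw e').symm
  have hb : Nat.testBit ((mL.getD 0 []).getD 1 0) 0 = true := by decide +kernel
  have h1 := congrFun (congrFun h0 ⟨1, by norm_num⟩) ⟨0, by norm_num⟩
  simp only [matOf, Matrix.of_apply, Matrix.one_apply, Fin.ext_iff, hb, bz, if_true] at h1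
  exact absurd h1 (by decide)

end CfsgLib.Coset.Fi22E6
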