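import Cfsg.Agent.Coset.Fi22E6.Kernel
import Cfsg.Agent.Chev.InvolTwoMask

/-!
The root elements of `E₆` used for `Fi₂₂` in pair rows.
-/

set_option autoImplicit false
set_option maxRecDepth 100000

namespace CfsgLib.Coset.Fi22E6

open Cfsg.Lie Matrix CfsgLib.Chev CfsgLib.Coset.J4.Mat


section Kernel

/-- The divided powers of a root modulo two are the columns of the table. -/
def colsOK (k : ℕ) : Bool :=
  let r := roots.getD k 0
  let c1 := q1.getD k []
  let c2 := q2.getD k []
  CfsgLib.Chev.allBelow (fun y =>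
    Nat.beq (vecMask (E6Data.tab.colP 1 r y)) (c1.getD y 0) &&
      Nat.beq (vecMask (E6Data.tab.colP 2 r y)) (c2.getD y 0) &&
      Nat.beq (vecMask (E6Data.tab.colP 3 r y)) 0) 78

/-- Rows and columns are transposes. -/
def transOK (k : ℕ) : Bool :=
  let a1 := p1.getD k []
  let a2 := p2.getD k []
  let c1 := q1.getD k []
  let c2 := q2.getD k []
  CfsgLib.Chev.allBelow (fun y => CfsgLib.Chev.allBelow (fun x =>
    ((a1.getD x 0).testBit y == (c1.getD y 0).testBit x) &&
      ((a2.getD x 0).testBit y == (c2.getD y 0).testBit x)) 78) 78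

/-- A pair is the root element of an item. -/
def itemOK (n : ℕ) : Bool :=
  let k := (items.getD n (0, 0)).1
  let t := (items.getD n (0, 0)).2
  let X := xs.getD n ([], [])
  Nat.blt k 12 && Nat.beq X.1.length 78 && Nat.beq X.2.length 78 &&
    CfsgLib.Chev.allBelow (fun i =>
      let a := (p1.getD k []).getD i 0
      let b := (p2.getD k []).getD i 0
      cond (Nat.beq t 1)
        (Nat.beq (X.1.getD i 0) (Nat.xor (Nat.pow 2 i) (Nat.xor a b)) && Nat.beq (X.2.getD i 0) 0)
        (Nat.beq (X.2.getD i 0) (Nat.xor a b) &&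
          cond (Nat.beq t 2) (Nat.beq (X.1.getD i 0) (Nat.xor (Nat.pow 2 i) b))
            (Nat.beq t 3 && Nat.beq (X.1.getD i 0) (Nat.xor (Nat.pow 2 i) a)))) 78

end Kernel

theorem cols_ok : CfsgLib.Chev.allBelow (fun k => colsOK k && Nat.blt (roots.getD k 0) 72) 12 = true := by
  decide +kernel

theorem trans_ok : CfsgLib.Chev.allBelow transOK 12 = true := by decide +kernel

theorem items_ok : CfsgLib.Chev.allBelow itemOK 20 = true := by decide +kernel

/-- The roots of an item. -/
def rootOf (n : ℕ) : ℕ := roots.getD (items.getD n (0, 0)).1 0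

theorem rootOf_lt {n : ℕ} (hn : n < 20) : rootOf n < 72 := by
  have h := (CfsgLib.Chev.allBelow_iff _ _).mp items_ok n hn
  simp only [itemOK, Bool.and_eq_true, Nat.blt_eq] at h
  have h' := (CfsgLib.Chev.allBelow_iff _ _).mp cols_ok _ h.1.1.1
  simp only [Bool.and_eq_true, Nat.blt_eq] at h'
  exact h'.2

variable {K : Type*} [Field K] [CharP K 2]

/-- The parameter with a code. -/
def tval (w : K) (t : ℕ) : K := if t = 1 then 1 else if t = 2 then w else w ^ 2

theorem dim_eq : Tab.dim chevE6 = 78 := by decide +kernel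

/-- The numbering of the basis. -/
noncomputable def eI : chevE6.Idx ≃ Fin 78 :=
  Equiv.ofBijective (fun b => ⟨code b, dim_eq ▸ code_lt b⟩)
    ⟨fun a b h => code_injective (congrArg Fin.val h), fun k => by
      obtain ⟨b, hb⟩ := exists_code (D := chevE6) (k := k.val) (dim_eq.symm ▸ k.isLt)
      exact ⟨b, Fin.ext hb⟩⟩

theorem eI_val (b : chevE6.Idx) : (eI b : ℕ) = code b := rfl

theorem bitF_P {k : ℕ} (hk : k < 12) (x y : chevE6.Idx) :
    (E6Data.tab.P 1 (roots.getD k 0) x y : K) =
        bitF K (((p1.getD k []).getD (code x) 0).testBit (code y)) ∧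
      (E6Data.tab.P 2 (roots.getD k 0) x y : K) =
        bitF K (((p2.getD k []).getD (code x) 0).testBit (code y)) ∧
      (E6Data.tab.P 3 (roots.getD k 0) x y : K) = 0 := by
  have h := (CfsgLib.Chev.allBelow_iff _ _).mp cols_ok k hk
  simp only [colsOK, Bool.and_eq_true, CfsgLib.Chev.allBelow_iff] at h
  have hc := h.1 (code y) (dim_eq ▸ code_lt y)
  have ht := (CfsgLib.Chev.allBelow_iff _ _).mp trans_ok k hk
  simp only [transOK, CfsgLib.Chev.allBelow_iff, Bool.and_eq_true, beq_iff_eq] at ht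
  have ht' := ht (code y) (dim_eq ▸ code_lt y) (code x) (dim_eq ▸ code_lt x)
  rw [← E6Data.tab.colP_eq 1 _ (by omega) x y, ← E6Data.tab.colP_eq 2 _ (by omega) x y,
    ← E6Data.tab.colP_eq 3 _ (by omega) x y, ← bitF_vecMask, ← bitF_vecMask, ← bitF_vecMask,
    Nat.eq_of_beq_eq_true hc.1.1, Nat.eq_of_beq_eq_true hc.1.2, Nat.eq_of_beq_eq_true hc.2, ht'.1,
    ht'.2]
  simp [bitF]

theorem bitF_unit (x y : chevE6.Idx) :
    bitF K ((Nat.pow 2 (code x)).testBit (code y)) = (1 : Matrix chevE6.Idx chevE6.Idx K) x y := by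
  rw [show Nat.pow 2 (code x) = 2 ^ code x from rfl, Nat.testBit_two_pow, Matrix.one_apply]
  by_cases h : x = y
  · simp [h, bitF]
  · have : code x ≠ code y := fun e => h (code_injective e)
    simp [h, bitF, this]

theorem X_item {w : K} (hw : w * w = w + 1) {n : ℕ} (hn : n < 20) :
    ((xs.getD n ([], [])).1.length = 78 ∧ (xs.getD n ([], [])).2.length = 78) ∧
    E6Data.tab.X K (rootOf n) (tval w (items.getD n (0, 0)).2) =
      (pM w (xs.getD n ([], []))).submatrix eI eI := by
  have h := (CfsgLib.Chev.allBelow_iff _ _).mp items_ok n hn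
  simp only [itemOK, Bool.and_eq_true, Nat.blt_eq, Nat.beq_eq, CfsgLib.Chev.allBelow_iff] at h
  obtain ⟨⟨⟨hk, hl1⟩, hl2⟩, hrow⟩ := h
  refine ⟨⟨hl1, hl2⟩, Matrix.ext fun x y => ?_⟩
  obtain ⟨e1, e2, e3⟩ := bitF_P (K := K) hk x y
  have h0 := hrow (code x) (dim_eq ▸ code_lt x)
  simp only [Tab.X, Finset.sum_range_succ, Finset.sum_range_zero, zero_add, Matrix.add_apply,
    Matrix.smul_apply, Matrix.map_apply, smul_eq_mul, pM, bM, CfsgLib.Coset.J4.Mat.matOf, Matrix.of_apply,
    submatrix_apply, eI_val, inc_bz, rootOf, e1, e2, e3, mul_zero, add_zero, Tab.P_zero]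
  rw [show ((1 : Matrix chevE6.Idx chevE6.Idx ℤ) x y : K) =
    (1 : Matrix chevE6.Idx chevE6.Idx K) x y by
      simp only [Matrix.one_apply]; split <;> simp, ← bitF_unit]
  have hx : ∀ a b i, bitF K ((Nat.xor a b).testBit i) = bitF K (a.testBit i) + bitF K (b.testBit i) :=
    fun a b i => by
      rw [show (Nat.xor a b).testBit i = (a.testBit i ^^ b.testBit i) from Nat.testBit_xor a b i,
        bitF_xor]
  cases hb1 : Nat.beq (items.getD n (0, 0)).2 1
  · simp only [hb1, cond_false, Bool.and_eq_true, Nat.beq_eq] at h0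
    cases hb2 : Nat.beq (items.getD n (0, 0)).2 2
    · simp only [hb2, cond_false, Bool.and_eq_true, Nat.beq_eq] at h0
      simp only [tval, h0.2.1, h0.1, h0.2.2, hx, if_neg (show (3 : ℕ) ≠ 1 by omega),
        if_neg (show (3 : ℕ) ≠ 2 by omega), pow_zero, one_mul, pow_one]
      linear_combination (bitF K (((p1.getD (items.getD n (0, 0)).1 []).getD (code x) 0).testBit
          (code y)) + (w ^ 2 + w + 2) *
          bitF K (((p2.getD (items.getD n (0, 0)).1 []).getD (code x) 0).testBit (code y))) * hw +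
        (bitF K (((p2.getD (items.getD n (0, 0)).1 []).getD (code x) 0).testBit (code y)) *
          (w + 1)) * (CharTwo.two_eq_zero : (2 : K) = 0)
    · simp only [hb2, cond_true, Nat.beq_eq] at h0
      simp only [tval, Nat.eq_of_beq_eq_true hb2, h0.1, h0.2, hx, if_neg (show (2 : ℕ) ≠ 1 by omega),
        if_true, pow_zero, one_mul, pow_one]
      linear_combination
        bitF K (((p2.getD (items.getD n (0, 0)).1 []).getD (code x) 0).testBit (code y)) * hw
  · simp only [hb1, cond_true, Bool.and_eq_true, Nat.beq_eq] at h0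
    simp only [tval, Nat.eq_of_beq_eq_true hb1, h0.1, h0.2, hx, if_true, one_pow, one_mul,
      Nat.zero_testBit]
    simp only [bitF, Bool.false_eq_true, if_false, mul_zero, add_zero]
    ring

end CfsgLib.Coset.Fi22E6
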